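import Mathlib

/-!
Order of a `p`-group of derived length `k + 1` (after P. Hall and A. Mann).
-/

set_option autoImplicit false

namespace CfsgLib.DerivedLength

open Subgroup
open scoped commutatorElement

variable {G : Type*} [Group G]

/-- Iterated commutator of `H` with the whole group. -/
def cs (H : Subgroup G) : ℕ → Subgroup G
  | 0 => H
  | j + 1 => ⁅cs H j, ⊤⁆

theorem cs_cs (H : Subgroup G) (i : ℕ) : ∀ j, cs (cs H i) j = cs H (i + j)
  | 0 => rfl
  | j + 1 => by
    show ⁅cs (cs H i) j, ⊤⁆ = ⁅cs H (i + j), ⊤⁆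
    rw [cs_cs H i j]

instance cs_normal (H : Subgroup G) [H.Normal] (j : ℕ) : (cs H j).Normal := by
  induction j with
  | zero => exact ‹H.Normal›
  | succ j ih => exact Subgroup.commutator_normal _ _

theorem cs_mono {H K : Subgroup G} (h : H ≤ K) : ∀ j, cs H j ≤ cs K j
  | 0 => h
  | j + 1 => commutator_mono (cs_mono h j) le_rfl

theorem cs_succ_le (H : Subgroup G) [H.Normal] (j : ℕ) : cs H (j + 1) ≤ cs H j :=
  commutator_le_left _ _

theorem cs_antitone (H : Subgroup G) [H.Normal] : Antitone (cs H) :=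
  antitone_nat_of_succ_le (cs_succ_le H)

theorem cs_top_eq : ∀ j, cs (⊤ : Subgroup G) j = (⊤ : Subgroup G).lowerCentralSeries j
  | 0 => rfl
  | j + 1 => by
    show ⁅cs (⊤ : Subgroup G) j, ⊤⁆ = _
    rw [cs_top_eq j]; rfl

theorem three_le (N A B C : Subgroup G) [N.Normal] (h1 : ⁅⁅B, C⁆, A⁆ ≤ N)
    (h2 : ⁅⁅C, A⁆, B⁆ ≤ N) : ⁅⁅A, B⁆, C⁆ ≤ N := by
  have key : ∀ H : Subgroup G, H ≤ N ↔ H.map (QuotientGroup.mk' N) = ⊥ := fun H => by
    rw [Subgroup.map_eq_bot_iff, QuotientGroup.ker_mk']
  rw [key, map_commutator, map_commutator] at h1 h2 ⊢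
  exact commutator_commutator_eq_bot_of_rotate h1 h2

theorem comm_cs_top : ∀ (n : ℕ) (H : Subgroup G) [H.Normal],
    ⁅H, cs (⊤ : Subgroup G) n⁆ ≤ cs H (n + 1)
  | 0, H, _ => le_refl _
  | n + 1, H, hH => by
    rw [commutator_comm]
    refine three_le (cs H (n + 1 + 1)) (cs (⊤ : Subgroup G) n) ⊤ H ?_ ?_
    · rw [commutator_comm ⊤ H]
      refine (comm_cs_top n (cs H 1)).trans (le_of_eq ?_)
      rw [cs_cs]; congr 1; omega
    · exact commutator_mono (comm_cs_top n H) le_rfl

theorem cs_ne (H : Subgroup G) [H.Normal] [Group.IsNilpotent G] (j : ℕ) (h : cs H j ≠ ⊥) :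
    cs H (j + 1) < cs H j := by
  refine lt_of_le_of_ne (cs_succ_le H j) fun he => h ?_
  obtain ⟨n, hn⟩ := _root_.nilpotent_iff_lowerCentralSeries.mp (‹Group.IsNilpotent G›)
  have : ∀ i, cs (cs H j) i = cs H j := by
    intro i
    induction i with
    | zero => rfl
    | succ i ih =>
      show ⁅cs (cs H j) i, ⊤⁆ = _
      rw [ih]; exact he
  have h1 := cs_mono (le_top : cs H j ≤ ⊤) n
  rw [this, cs_top_eq, hn] at h1
  exact le_bot_iff.mp h1

/-- Commutators in a subgroup generated by elements that commute modulo `L`. -/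
theorem commutator_le_of_gen (L H : Subgroup G) [L.Normal] (T : Set G) (hH : H ≤ closure T)
    (hT : ∀ x ∈ T, ∀ y ∈ T, ⁅x, y⁆ ∈ L) : ⁅H, H⁆ ≤ L := by
  refine le_trans (commutator_mono hH hH) ?_
  have h : (⁅closure T, closure T⁆).map (QuotientGroup.mk' L) = ⊥ := by
    rw [map_commutator, MonoidHom.map_closure, commutator_eq_bot_iff_le_centralizer,
      centralizer_closure, closure_le]
    rintro _ ⟨x, hx, rfl⟩
    rw [SetLike.mem_coe, mem_centralizer_iff]
    rintro _ ⟨y, hy, rfl⟩
    have : QuotientGroup.mk' L ⁅y, x⁆ = 1 := (QuotientGroup.eq_one_iff _).mpr (hT y hy x hx)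
    rw [map_commutatorElement] at this
    exact commutatorElement_eq_one_iff_mul_comm.mp this
  rwa [Subgroup.map_eq_bot_iff, QuotientGroup.ker_mk'] at h

theorem normal_of_between (K L : Subgroup G) (h1 : ⁅K, ⊤⁆ ≤ L) (h2 : L ≤ K) : L.Normal := by
  refine ⟨fun x hx g => ?_⟩
  have : ⁅g, x⁆ ∈ L := by
    have h := L.inv_mem (h1 (commutator_mem_commutator (h2 hx) (mem_top g)))
    rwa [commutatorElement_inv] at h
  have h' := L.mul_mem this hx
  rwa [commutatorElement_def, mul_assoc (g * x * g⁻¹), inv_mul_cancel, mul_one] at h'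

/-- If `[H,B] ≤ [K,G]`, `B ≤ H` and `H` is generated by `B` and two elements, where `K = [H,H]`,
then `K' ≤ [K,[K,G]]`. -/
theorem derived_le (H B : Subgroup G) [H.Normal] (hBH : B ≤ H) (a b : G) (ha : a ∈ H) (hb : b ∈ H)
    (hgen : H ≤ closure ({a, b} ∪ (B : Set G))) (hHB : ⁅H, B⁆ ≤ ⁅⁅H, H⁆, ⊤⁆) :
    ⁅⁅H, H⁆, ⁅H, H⁆⁆ ≤ ⁅⁅H, H⁆, ⁅⁅H, H⁆, ⊤⁆⁆ := by
  set K : Subgroup G := ⁅H, H⁆ with hK
  set C : Subgroup G := ⁅K, ⊤⁆ with hC
  have hCK : C ≤ K := commutator_le_left _ _
  set L : Subgroup G := closure ({⁅a, b⁆} ∪ (C : Set G)) with hL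
  have hcL : ⁅a, b⁆ ∈ L := subset_closure (Or.inl rfl)
  have hCL : C ≤ L := fun x hx => subset_closure (Or.inr hx)
  have hcK : ⁅a, b⁆ ∈ K := commutator_mem_commutator ha hb
  have hLK : L ≤ K := by
    rw [hL, closure_le]
    rintro x (hx | hx)
    · rw [Set.mem_singleton_iff] at hx; subst hx; exact hcK
    · exact hCK hx
  haveI : L.Normal := normal_of_between K L hCL hLK
  have hKL : K ≤ L := by
    refine commutator_le_of_gen L H _ hgen ?_
    have hB : ∀ x ∈ H, ∀ y ∈ B, ⁅x, y⁆ ∈ L ∧ ⁅y, x⁆ ∈ L := fun x hx y hy => by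
      have h := hCL (hHB (commutator_mem_commutator hx hy))
      refine ⟨h, ?_⟩
      rw [← commutatorElement_inv]; exact L.inv_mem h
    rintro x (hx | hx) y (hy | hy)
    · have hba : ⁅b, a⁆ ∈ L := by rw [← commutatorElement_inv]; exact L.inv_mem hcL
      simp only [Set.mem_insert_iff, Set.mem_singleton_iff] at hx hy
      rcases hx with rfl | rfl <;> rcases hy with rfl | rfl <;>
        simp [hcL, hba]
    · have hxH : x ∈ H := by
        simp only [Set.mem_insert_iff, Set.mem_singleton_iff] at hx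
        rcases hx with rfl | rfl <;> assumption
      exact (hB x hxH y hy).1
    · have hyH : y ∈ H := by
        simp only [Set.mem_insert_iff, Set.mem_singleton_iff] at hy
        rcases hy with rfl | rfl <;> assumption
      exact (hB y hyH x hx).2
    · exact (hB x (hBH hx) y hy).1
  refine commutator_le_of_gen ⁅K, C⁆ K _ (hKL.trans (le_of_eq hL)) ?_
  rintro x (hx | hx) y (hy | hy)
  · rw [Set.mem_singleton_iff] at hx hy; subst hx hy; simp
  · rw [Set.mem_singleton_iff] at hx; subst hx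
    exact commutator_mem_commutator hcK hy
  · rw [Set.mem_singleton_iff] at hy; subst hy
    rw [← commutatorElement_inv]
    exact inv_mem (commutator_mem_commutator hcK hx)
  · exact commutator_mem_commutator (hCK hx) hy

variable [Finite G] {p : ℕ} [hp : Fact p.Prime]

/-- `p`-adic size of a subgroup. -/
noncomputable def v (p : ℕ) (H : Subgroup G) : ℕ := Nat.log p (Nat.card H)

theorem card_eq_pow_v (hG : IsPGroup p G) (H : Subgroup G) : Nat.card H = p ^ v p H := by
  obtain ⟨a, ha⟩ := IsPGroup.iff_card.mp (hG.to_subgroup H)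
  rw [v, ha, Nat.log_pow hp.out.one_lt]

theorem v_lt (hG : IsPGroup p G) {H K : Subgroup G} (h : H < K) : v p H < v p K := by
  rcases lt_or_ge (v p H) (v p K) with hv | hv
  · exact hv
  · exfalso
    have h1 : Nat.card K ≤ Nat.card H := by
      rw [card_eq_pow_v hG H, card_eq_pow_v hG K]
      exact Nat.pow_le_pow_right hp.out.pos hv
    exact absurd (Subgroup.eq_of_le_of_card_ge h.le h1) h.ne

theorem v_mono (hG : IsPGroup p G) {H K : Subgroup G} (h : H ≤ K) : v p H ≤ v p K := by
  rcases h.lt_or_eq with h | h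
  · exact (v_lt hG h).le
  · rw [h]

theorem cs_chain (hG : IsPGroup p G) [Group.IsNilpotent G] (H : Subgroup G) [H.Normal] (i : ℕ) :
    ∀ t : ℕ, (t = 0 ∨ cs H (i + t - 1) ≠ ⊥) → v p (cs H (i + t)) + t ≤ v p (cs H i)
  | 0, _ => le_rfl
  | t + 1, h => by
    have hne : cs H (i + t) ≠ ⊥ := by
      rcases h with h | h
      · omega
      · exact h
    have h1 := cs_chain hG H i t (by
      rcases Nat.eq_zero_or_pos t with ht | ht
      · exact Or.inl ht
      · exact Or.inr fun h0 => hne (le_bot_iff.mp (h0 ▸ cs_antitone H (by omega))))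
    have h2 := v_lt hG (cs_ne H (i + t) hne)
    show v p (cs H (i + t + 1)) + (t + 1) ≤ _
    omega

theorem gen_step (hG : IsPGroup p G) {B H : Subgroup G} (hB : B ≤ H) (k : ℕ)
    (h : v p H ≤ v p B + (k + 1)) :
    ∃ a ∈ H, v p H ≤ v p (closure ({a} ∪ (B : Set G))) + k ∧ closure ({a} ∪ (B : Set G)) ≤ H := by
  rcases hB.lt_or_eq with hlt | heq
  · obtain ⟨a, haH, haB⟩ := SetLike.exists_of_lt hlt
    have hle : closure ({a} ∪ (B : Set G)) ≤ H := by
      rw [closure_le]; rintro x (hx | hx)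
      · rw [Set.mem_singleton_iff] at hx; subst hx; exact haH
      · exact hB hx
    refine ⟨a, haH, ?_, hle⟩
    have : B < closure ({a} ∪ (B : Set G)) := by
      refine lt_of_le_of_ne (fun x hx => subset_closure (Or.inr hx)) fun he => haB ?_
      rw [he]; exact subset_closure (Or.inl rfl)
    have := v_lt hG this
    omega
  · refine ⟨1, one_mem _, ?_, ?_⟩
    · have := v_mono hG (show B ≤ closure ({(1 : G)} ∪ (B : Set G)) from
        fun x hx => subset_closure (Or.inr hx))
      have h' : v p B = v p H := by rw [heq]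
      omega
    · rw [closure_le, heq]; rintro x (hx | hx)
      · rw [Set.mem_singleton_iff] at hx; subst hx; exact one_mem _
      · exact hx

theorem gen_two (hG : IsPGroup p G) {B H : Subgroup G} (hB : B ≤ H) (h : v p H ≤ v p B + 2) :
    ∃ a ∈ H, ∃ b ∈ H, H ≤ closure ({a, b} ∪ (B : Set G)) := by
  obtain ⟨a, ha, hva, hale⟩ := gen_step hG hB 1 h
  obtain ⟨b, hb, hvb, hble⟩ := gen_step hG hale 0 hva
  refine ⟨a, ha, b, hb, ?_⟩
  have heq : closure ({b} ∪ (closure ({a} ∪ (B : Set G)) : Set G)) = H := by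
    rcases hble.lt_or_eq with hlt | he
    · exact absurd (v_lt hG hlt) (by omega)
    · exact he
  conv_lhs => rw [← heq]
  rw [closure_le]
  rintro x (hx | hx)
  · rw [Set.mem_singleton_iff] at hx; subst hx; exact subset_closure (by simp)
  · exact closure_mono (by
      rintro y (hy | hy)
      · rw [Set.mem_singleton_iff] at hy; subst hy; simp
      · exact Or.inr hy) hx

/-- One step of the derived series. -/
theorem step (hG : IsPGroup p G) (H : Subgroup G) [H.Normal] (n : ℕ)
    (hn : H ≤ cs (⊤ : Subgroup G) n) (hne : ⁅H, H⁆ ≠ ⊥) :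
    v p (⁅H, H⁆ : Subgroup G) + (n + 2) ≤ v p H ∧
      (v p H = v p (⁅H, H⁆ : Subgroup G) + (n + 2) →
        ⁅⁅H, H⁆, ⁅H, H⁆⁆ ≤ cs (⊤ : Subgroup G) (4 * n + 4)) := by
  haveI : Group.IsNilpotent G := hG.isNilpotent
  set K : Subgroup G := ⁅H, H⁆ with hK
  have hK1 : K ≤ cs H (n + 1) := (commutator_mono le_rfl hn).trans (comm_cs_top n H)
  have hcsn : cs H (n + 1) ≠ ⊥ := fun h => hne (le_bot_iff.mp (h ▸ hK1))
  have hcs : ∀ i, i ≤ n + 1 → cs H i ≠ ⊥ := fun i hi h =>
    hcsn (le_bot_iff.mp (h ▸ cs_antitone H hi))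
  have hKtop : K ≤ cs (⊤ : Subgroup G) (2 * n + 1) := by
    refine hK1.trans ((cs_mono hn (n + 1)).trans (le_of_eq ?_))
    rw [cs_cs]; congr 1; omega
  have hder : ∀ B : Subgroup G, B ≤ H → v p H ≤ v p B + 2 → ⁅H, B⁆ ≤ ⁅K, ⊤⁆ →
      ⁅K, K⁆ ≤ cs (⊤ : Subgroup G) (4 * n + 4) := by
    intro B hBH hv hHB
    obtain ⟨a, ha, b, hb, hgen⟩ := gen_two hG hBH hv
    refine (derived_le H B hBH a b ha hb hgen hHB).trans ?_
    refine (commutator_mono hKtop (commutator_mono hKtop le_rfl)).trans ?_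
    refine (comm_cs_top (2 * n + 1 + 1) (cs (⊤ : Subgroup G) (2 * n + 1))).trans (le_of_eq ?_)
    rw [cs_cs]; congr 1; omega
  have hc1 : v p (cs H (n + 1)) + n ≤ v p (cs H 1) := by
    have := cs_chain hG H 1 n (Or.inr (hcs _ (by omega)))
    rwa [show 1 + n = n + 1 by omega] at this
  rcases (show v p (cs H 1) + 1 = v p H ∨ v p (cs H 1) + 2 ≤ v p H by
    have : v p (cs H 1) < v p H := v_lt hG (cs_ne H 0 (hcs 0 (by omega)))
    omega) with hA | hB
  · -- cyclic head
    have hK2 : K ≤ cs H (n + 2) := by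
      obtain ⟨a, ha, hva, hle⟩ := gen_step hG (show cs H 1 ≤ H from cs_succ_le H 0) 0 (by omega)
      have hgen : H ≤ closure ({a} ∪ (cs H 1 : Set G)) := by
        rcases hle.lt_or_eq with hlt | he
        · exact absurd (v_lt hG hlt) (by omega)
        · exact le_of_eq he.symm
      have hcomm : ⁅H, cs H 1⁆ ≤ cs H (n + 2) := by
        rw [commutator_comm]
        refine (commutator_mono le_rfl hn).trans ((comm_cs_top n (cs H 1)).trans (le_of_eq ?_))
        rw [cs_cs]; congr 1; omega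
      refine commutator_le_of_gen (cs H (n + 2)) H _ hgen ?_
      rintro x (hx | hx) y (hy | hy)
      · rw [Set.mem_singleton_iff] at hx hy; subst hx hy; simp
      · rw [Set.mem_singleton_iff] at hx; subst hx
        exact hcomm (commutator_mem_commutator ha hy)
      · rw [Set.mem_singleton_iff] at hy; subst hy
        rw [← commutatorElement_inv]
        exact inv_mem (hcomm (commutator_mem_commutator ha hx))
      · exact hcomm (commutator_mem_commutator (cs_succ_le H 0 hx) hy)
    have h2 : v p (cs H (n + 2)) < v p (cs H (n + 1)) := v_lt hG (cs_ne H (n + 1) hcsn)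
    have h3 := v_mono hG hK2
    refine ⟨by omega, fun heq => ?_⟩
    have hKeq : K = cs H (n + 2) := by
      rcases hK2.lt_or_eq with hlt | he
      · have := v_lt hG hlt; omega
      · exact he
    refine hder (cs H 2) (cs_antitone H (Nat.zero_le 2)) ?_ ?_
    · rcases Nat.eq_zero_or_pos n with hn0 | hn0
      · subst hn0
        simp only [Nat.zero_add] at *
        omega
      · have h4 : v p (cs H (n + 1)) + (n - 1) ≤ v p (cs H 2) := by
          have := cs_chain hG H 2 (n - 1) (Or.inr (hcs _ (by omega)))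
          rwa [show 2 + (n - 1) = n + 1 by omega] at this
        omega
    · rw [commutator_comm, hKeq]
      refine (commutator_mono le_rfl hn).trans ((comm_cs_top n (cs H 2)).trans (le_of_eq ?_))
      show _ = cs H (n + 2 + 1)
      rw [cs_cs]; congr 1; omega
  · have h3 := v_mono hG hK1
    refine ⟨by omega, fun heq => ?_⟩
    have hKeq : K = cs H (n + 1) := by
      rcases hK1.lt_or_eq with hlt | he
      · have := v_lt hG hlt; omega
      · exact he
    refine hder (cs H 1) (cs_succ_le H 0) (by omega) ?_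
    rw [commutator_comm, hKeq]
    refine (commutator_mono le_rfl hn).trans ((comm_cs_top n (cs H 1)).trans (le_of_eq ?_))
    show _ = cs H (n + 1 + 1)
    rw [cs_cs]; congr 1; omega

theorem comm_top_le {H : Subgroup G} {n : ℕ} (h : H ≤ cs (⊤ : Subgroup G) n) :
    ⁅H, H⁆ ≤ cs (⊤ : Subgroup G) (2 * n + 1) := by
  refine (commutator_mono h h).trans ((comm_cs_top n _).trans (le_of_eq ?_))
  rw [cs_cs]; congr 1; omega

theorem derived_le_top : ∀ i, derivedSeries G i ≤ cs (⊤ : Subgroup G) (2 ^ i - 1)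
  | 0 => le_rfl
  | i + 1 => by
    rw [derivedSeries_succ]
    refine (comm_top_le (derived_le_top i)).trans (le_of_eq ?_)
    congr 1
    have := Nat.one_le_two_pow (n := i)
    rw [pow_succ]; omega

theorem derived_le_top_succ {i : ℕ} (h : derivedSeries G i ≤ cs (⊤ : Subgroup G) (2 ^ i)) :
    derivedSeries G (i + 1) ≤ cs (⊤ : Subgroup G) (2 ^ (i + 1)) := by
  rw [derivedSeries_succ]
  refine (comm_top_le h).trans (cs_antitone _ ?_)
  rw [pow_succ]; omega

theorem derived_bound (hG : IsPGroup p G) (k : ℕ) (hk : derivedSeries G k ≠ ⊥) :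
    2 ^ k + 2 * k ≤ v p (⊤ : Subgroup G) + 2 := by
  have hne : ∀ i, i ≤ k → derivedSeries G i ≠ ⊥ := fun i hi h =>
    hk (le_bot_iff.mp (h ▸ derivedSeries_antitone G hi))
  suffices H : ∀ j, j ≤ k →
      (v p (derivedSeries G j) + 2 ^ j + 2 * j ≤ v p (⊤ : Subgroup G) + 1) ∨
      (v p (derivedSeries G j) + 2 ^ j + 2 * j ≤ v p (⊤ : Subgroup G) + 2 ∧
        derivedSeries G (j + 1) ≤ cs (⊤ : Subgroup G) (2 ^ (j + 1))) ∨
      (v p (derivedSeries G j) + 2 ^ j + 2 * j ≤ v p (⊤ : Subgroup G) + 3 ∧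
        derivedSeries G j ≤ cs (⊤ : Subgroup G) (2 ^ j)) by
    have hpos : 0 < v p (derivedSeries G k) := by
      by_contra h0
      refine hk (Subgroup.eq_bot_of_card_eq _ ?_)
      rw [card_eq_pow_v hG (p := p), show v p (derivedSeries G k) = 0 by omega, pow_zero]
    rcases H k le_rfl with h | ⟨h, -⟩ | ⟨h, -⟩ <;> omega
  intro j
  induction j with
  | zero => intro _; left; simp [derivedSeries_zero]
  | succ j ih =>
    intro hj
    haveI := derivedSeries_normal G j
    have hK : ⁅derivedSeries G j, derivedSeries G j⁆ ≠ ⊥ := by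
      rw [← derivedSeries_succ]; exact hne _ hj
    obtain ⟨hs, heq⟩ := step hG (derivedSeries G j) (2 ^ j - 1) (derived_le_top j) hK
    rw [← derivedSeries_succ] at hs heq
    have hpos := Nat.one_le_two_pow (n := j)
    rcases ih (by omega) with h | ⟨h, h'⟩ | ⟨h, h'⟩
    · rcases (show v p (derivedSeries G (j + 1)) + (2 ^ j + 2) ≤ v p (derivedSeries G j) ∨
          v p (derivedSeries G j) = v p (derivedSeries G (j + 1)) + (2 ^ j - 1 + 2) by omega)
        with hstrict | hequal
      · left; rw [pow_succ]; omega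
      · right; left
        refine ⟨by rw [pow_succ]; omega, ?_⟩
        rw [derivedSeries_succ G (j + 1)]
        refine (heq hequal).trans (le_of_eq ?_)
        congr 1
        rw [pow_succ, pow_succ]; omega
    · right; right
      exact ⟨by rw [pow_succ]; omega, h'⟩
    · right; right
      obtain ⟨hs', -⟩ := step hG (derivedSeries G j) (2 ^ j) h' hK
      rw [← derivedSeries_succ] at hs'
      exact ⟨by rw [pow_succ]; omega, derived_le_top_succ h'⟩

end CfsgLib.DerivedLength
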